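import Groth.Agent.InvExt.Codim1
import Groth.Agent.S4362
import Groth.Agent.S6307

/-!
# Decomposition of effective Cartier divisors into integral ones
-/

universe u

open CategoryTheory AlgebraicGeometry TopologicalSpace Groth.Agent.InvExt

set_option backward.isDefEq.respectTransparency false

namespace Groth.Agent.CartDecomp

lemma colon_map {A S : Type u} [CommRing A] [CommRing S] [Algebra A S] (M : Submonoid A)
    [IsLocalization M S] (D P : Ideal A) (hP : P.FG) :
    (D.colon (P : Set A)).map (algebraMap A S) =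
      (D.map (algebraMap A S)).colon (P.map (algebraMap A S) : Set S) := by
  classical
  refine le_antisymm (Ideal.map_le_iff_le_comap.2 fun a ha => ?_) fun x hx => ?_
  · rw [Ideal.mem_comap, Submodule.mem_colon]
    intro y hy
    rw [smul_eq_mul]
    have h : P.map (algebraMap A S) ≤
        ((D.map (algebraMap A S)).colon {algebraMap A S a} : Ideal S) :=
      Ideal.map_le_iff_le_comap.2 fun p hp => by
        rw [Ideal.mem_comap, Submodule.mem_colon_singleton, smul_eq_mul, ← map_mul, mul_comm]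
        exact Ideal.mem_map_of_mem _ (Submodule.mem_colon.1 ha p hp)
    have := Submodule.mem_colon_singleton.1 (h hy)
    rwa [smul_eq_mul, mul_comm] at this
  · obtain ⟨σ, hσ⟩ := hP
    obtain ⟨a, s, rfl⟩ := IsLocalization.exists_mk'_eq M x
    have h1 : ∀ p ∈ P, ∃ t ∈ M, t * (a * p) ∈ D := by
      intro p hp
      have h2 : IsLocalization.mk' S a s * algebraMap A S p ∈ D.map (algebraMap A S) :=
        Submodule.mem_colon.1 hx _ (Ideal.mem_map_of_mem _ hp)
      have h3 : algebraMap A S (a * p) ∈ D.map (algebraMap A S) := by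
        have := Ideal.mul_mem_left _ (algebraMap A S s) h2
        rwa [← mul_assoc, IsLocalization.mk'_spec', ← map_mul] at this
      obtain ⟨⟨⟨d, hd⟩, t⟩, ht⟩ := (IsLocalization.mem_map_algebraMap_iff M S).1 h3
      rw [← map_mul, IsLocalization.eq_iff_exists M] at ht
      obtain ⟨c, hc⟩ := ht
      refine ⟨c * t, M.mul_mem c.2 t.2, ?_⟩
      rw [show (c : A) * t * (a * p) = c * (a * p * t) by ring, hc]
      exact D.mul_mem_left _ hd
    choose! t htM htD using h1
    let T := ∏ p ∈ σ, t p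
    have hT : T * a ∈ D.colon (P : Set A) := by
      rw [Submodule.mem_colon]
      intro p hp
      rw [← hσ] at hp
      induction hp using Submodule.span_induction with
      | mem q hq =>
        have hq' : q ∈ σ := hq
        rw [smul_eq_mul, show T = (∏ p ∈ σ.erase q, t p) * t q from
          (Finset.prod_erase_mul σ t hq').symm, mul_assoc, mul_assoc]
        exact D.mul_mem_left _ (htD q (hσ ▸ Submodule.subset_span hq))
      | zero => rw [smul_zero]; exact D.zero_mem
      | add y z _ _ hy hz => rw [smul_add]; exact D.add_mem hy hz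
      | smul r y _ hy => rw [smul_comm]; exact D.smul_mem _ hy
    have hTM : T ∈ M := M.prod_mem fun p hp => htM p (hσ ▸ Submodule.subset_span hp)
    rw [show IsLocalization.mk' S a s = algebraMap A S (T * a) * IsLocalization.mk' S 1 (⟨T, hTM⟩ * s) by
      rw [← IsLocalization.mk'_eq_mul_mk'_one, IsLocalization.mk'_eq_iff_eq]
      simp only [Submonoid.coe_mul]
      ring_nf]
    exact Ideal.mul_mem_right _ _ (Ideal.mem_map_of_mem _ hT)

lemma colon_eq_of_mul {A : Type u} [CommRing A] {p g : A} (hp : p ∈ nonZeroDivisors A) :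
    (Ideal.span {p * g} : Ideal A).colon (Ideal.span {p} : Set A) = Ideal.span {g} := by
  ext c
  rw [Ideal.mem_colon_span_singleton, Ideal.mem_span_singleton, Ideal.mem_span_singleton]
  constructor
  · rintro ⟨r, hr⟩
    exact ⟨r, (isRegular_iff_mem_nonZeroDivisors.2 hp).right (show c * p = g * r * p by rw [hr]; ring)⟩
  · rintro ⟨r, rfl⟩
    exact ⟨r, by ring⟩

variable {X : Scheme.{u}}

/-- The colon ideal sheaf. -/
noncomputable def colonSheaf [IsLocallyNoetherian X] (D P : X.IdealSheafData) : X.IdealSheafData where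
  ideal W := (D.ideal W).colon (P.ideal W : Set Γ(X, W.1))
  map_ideal_basicOpen W f := by
    haveI : IsNoetherianRing Γ(X, W.1) := IsLocallyNoetherian.component_noetherian W
    letI : Algebra Γ(X, W.1) Γ(X, (X.affineBasicOpen (U := W) f).1) :=
      (X.presheaf.map (homOfLE (X.basicOpen_le f)).op).hom.toAlgebra
    haveI : IsLocalization.Away f Γ(X, (X.affineBasicOpen (U := W) f).1) :=
      W.2.isLocalization_basicOpen f
    have h := colon_map (S := Γ(X, (X.affineBasicOpen (U := W) f).1)) (Submonoid.powers f)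
      (D.ideal W) (P.ideal W) (IsNoetherian.noetherian _)
    rw [RingHom.algebraMap_toAlgebra] at h
    rw [← D.map_ideal_basicOpen W f, ← P.map_ideal_basicOpen W f]
    exact h

lemma nzd_res (W : X.affineOpens) (r : Γ(X, W.1)) {g : Γ(X, W.1)}
    (hg : g ∈ nonZeroDivisors Γ(X, W.1)) :
    (X.presheaf.map (homOfLE (X.basicOpen_le r)).op).hom g ∈
      nonZeroDivisors Γ(X, X.basicOpen r) := by
  letI := (X.presheaf.map (homOfLE (X.basicOpen_le r)).op).hom.toAlgebra
  haveI : IsLocalization.Away r Γ(X, X.basicOpen r) := W.2.isLocalization_basicOpen r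
  exact IsLocalization.map_nonZeroDivisors_le (Submonoid.powers r) Γ(X, X.basicOpen r)
    ⟨g, hg, rfl⟩

lemma res_chart {I : X.IdealSheafData} (W : X.affineOpens) (r : Γ(X, W.1)) {g : Γ(X, W.1)}
    (hg : g ∈ nonZeroDivisors Γ(X, W.1)) (hI : I.ideal W = Ideal.span {g}) :
    ∃ g' ∈ nonZeroDivisors Γ(X, (X.affineBasicOpen (U := W) r).1),
      I.ideal (X.affineBasicOpen r) = Ideal.span {g'} :=
  ⟨_, nzd_res W r hg, by rw [← I.map_ideal_basicOpen W r, hI, Ideal.map_span, Set.image_singleton]; rfl⟩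

/-- A chart of an effective Cartier divisor inside a given affine open. -/
lemma exists_chart {I : X.IdealSheafData} (hI : BlowUp.IsEffCartierIdeal I) (W : X.affineOpens)
    {x : X} (hx : x ∈ W.1) :
    ∃ r : Γ(X, W.1), x ∈ X.basicOpen r ∧
      ∃ g ∈ nonZeroDivisors Γ(X, (X.affineBasicOpen (U := W) r).1),
        I.ideal (X.affineBasicOpen r) = Ideal.span {g} := by
  obtain ⟨U, hxU, g, hg, hIU⟩ := hI x
  obtain ⟨r, s, hrs, hxr⟩ := exists_basicOpen_le_affine_inter W.2 U.2 x ⟨hx, hxU⟩
  refine ⟨r, hxr, ?_⟩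
  obtain ⟨g', hg', hI'⟩ := res_chart U s hg hIU
  have e : X.affineBasicOpen (U := W) r = X.affineBasicOpen (U := U) s := Subtype.ext hrs
  rw [e]
  exact ⟨g', hg', hI'⟩

/-- Two effective Cartier divisors have a common chart inside a given affine open. -/
lemma exists_chart₂ {I J : X.IdealSheafData} (hI : BlowUp.IsEffCartierIdeal I)
    (hJ : BlowUp.IsEffCartierIdeal J) (W : X.affineOpens) {x : X} (hx : x ∈ W.1) :
    ∃ V : X.affineOpens, x ∈ V.1 ∧ (∃ g ∈ nonZeroDivisors Γ(X, V.1), I.ideal V = Ideal.span {g}) ∧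
      ∃ g ∈ nonZeroDivisors Γ(X, V.1), J.ideal V = Ideal.span {g} := by
  obtain ⟨r, hr, g, hg, hIr⟩ := exists_chart hI W hx
  obtain ⟨s, hs, hJs⟩ := exists_chart hJ (X.affineBasicOpen r) hr
  exact ⟨X.affineBasicOpen s, hs, res_chart _ s hg hIr, hJs⟩

variable [IsLocallyNoetherian X] {D P : X.IdealSheafData}

/-- A chart for `D`, `P` and the quotient. -/
lemma exists_triple (hD : BlowUp.IsEffCartierIdeal D) (hP : BlowUp.IsEffCartierIdeal P)
    (hle : D ≤ P) (x : X) :
    ∃ V : X.affineOpens, x ∈ V.1 ∧ ∃ p g : Γ(X, V.1), p ∈ nonZeroDivisors Γ(X, V.1) ∧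
      g ∈ nonZeroDivisors Γ(X, V.1) ∧ P.ideal V = Ideal.span {p} ∧
      D.ideal V = Ideal.span {p * g} ∧ (colonSheaf D P).ideal V = Ideal.span {g} := by
  obtain ⟨U, hxU, -⟩ := hD x
  obtain ⟨V, hxV, ⟨f, hf, hDV⟩, ⟨p, hp, hPV⟩⟩ := exists_chart₂ hD hP U hxU
  have h : f ∈ Ideal.span {p} := hPV ▸ hle V (hDV ▸ Ideal.mem_span_singleton_self f)
  obtain ⟨g, rfl⟩ := Ideal.mem_span_singleton.1 h
  refine ⟨V, hxV, p, g, hp, (mul_mem_nonZeroDivisors.1 hf).2, hPV, hDV, ?_⟩
  show (D.ideal V).colon (P.ideal V : Set Γ(X, V.1)) = _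
  rw [hDV, hPV, colon_eq_of_mul hp]

lemma mul_colonSheaf (hD : BlowUp.IsEffCartierIdeal D) (hP : BlowUp.IsEffCartierIdeal P)
    (hle : D ≤ P) : P * colonSheaf D P = D := by
  choose V hxV p g hp hg hPV hDV hcV using exists_triple hD hP hle
  refine Scheme.IdealSheafData.ext_of_iSup_eq_top V (eq_top_iff.2 fun x _ =>
    Opens.mem_iSup.2 ⟨x, hxV x⟩) fun x => ?_
  rw [Scheme.IdealSheafData.ideal_mul, Pi.mul_apply, hPV, hcV, hDV, Ideal.span_singleton_mul_span_singleton]

lemma colonSheaf_cartier (hD : BlowUp.IsEffCartierIdeal D) (hP : BlowUp.IsEffCartierIdeal P)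
    (hle : D ≤ P) : BlowUp.IsEffCartierIdeal (colonSheaf D P) := fun x => by
  obtain ⟨V, hxV, p, g, -, hg, -, -, hc⟩ := exists_triple hD hP hle x
  exact ⟨V, hxV, g, hg, hc⟩

lemma le_colonSheaf : D ≤ colonSheaf D P := fun _ _ ha =>
  Submodule.mem_colon.2 fun p _ => Ideal.mul_mem_right p _ ha

lemma colonSheaf_ne (hD : BlowUp.IsEffCartierIdeal D) (hP : BlowUp.IsEffCartierIdeal P)
    (hle : D ≤ P) {x : X} (hx : x ∈ P.support) : colonSheaf D P ≠ D := by
  intro h
  obtain ⟨V, hxV, p, g, hp, hg, hPV, hDV, hcV⟩ := exists_triple hD hP hle x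
  rw [h, hDV] at hcV
  obtain ⟨c, hc⟩ := Ideal.mem_span_singleton.1 (hcV.symm ▸ Ideal.mem_span_singleton_self g :
    g ∈ Ideal.span {p * g})
  have hu : IsUnit p := IsUnit.of_mul_eq_one c ((isRegular_iff_mem_nonZeroDivisors.2 hg).right
    (show p * c * g = 1 * g by rw [one_mul, mul_right_comm]; exact hc.symm))
  have := (mem_support_iff_le V x hxV).1 hx
  rw [hPV, Ideal.span_singleton_eq_top.2 hu, top_le_iff] at this
  exact (V.2.primeIdealOf ⟨x, hxV⟩).isPrime.ne_top this

omit [IsLocallyNoetherian X] in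
lemma ideal_isPrime (P : X.IdealSheafData) [IsIntegral P.subscheme] (W : X.affineOpens) {x : X}
    (hxW : x ∈ W.1) (hx : x ∈ P.support) : (P.ideal W).IsPrime := by
  obtain ⟨z, rfl⟩ : x ∈ Set.range P.subschemeι := by
    rw [Scheme.IdealSheafData.range_subschemeι]; exact hx
  haveI : Nonempty (P.subschemeι ⁻¹ᵁ W.1) := ⟨⟨z, hxW⟩⟩
  haveI : IsDomain Γ(P.subscheme, P.subschemeι ⁻¹ᵁ W.1) := inferInstance
  rw [← Ideal.Quotient.isDomain_iff_prime]
  exact (P.subschemeObjIso W).commRingCatIsoToRingEquiv.symm.toMulEquiv.isDomain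

omit [IsLocallyNoetherian X] in
lemma eq_genericPoint (P : X.IdealSheafData) [IsIntegral P.subscheme] (W : X.affineOpens) {q : X}
    (hq : q ∈ W.1) (hqI : (W.2.primeIdealOf ⟨q, hq⟩).asIdeal = P.ideal W) :
    q = P.subschemeι (genericPoint ↥P.subscheme) := by
  have hqS : q ∈ P.support := (mem_support_iff_le W q hq).2 hqI.ge
  obtain ⟨p, hp⟩ : q ∈ Set.range P.subschemeι := by
    rw [Scheme.IdealSheafData.range_subschemeι]; exact hqS
  have h1 : P.subschemeι (genericPoint ↥P.subscheme) ⤳ q :=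
    hp ▸ (genericPoint_specializes p).map P.subschemeι.continuous
  have hηW : P.subschemeι (genericPoint ↥P.subscheme) ∈ W.1 := h1.mem_open W.1.2 hq
  have hηS : P.subschemeι (genericPoint ↥P.subscheme) ∈ P.support := by
    rw [← SetLike.mem_coe, ← Scheme.IdealSheafData.range_subschemeι]
    exact ⟨_, rfl⟩
  have h2 : q ⤳ P.subschemeι (genericPoint ↥P.subscheme) :=
    specializes_of_primeIdealOf_le W.2 hq hηW (hqI.le.trans ((mem_support_iff_le W _ hηW).1 hηS))
  exact (h2.antisymm h1).eq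

omit [IsLocallyNoetherian X] in
lemma le_of_genericPoint_mem (P : X.IdealSheafData) [IsIntegral P.subscheme]
    (h : P.subschemeι (genericPoint ↥P.subscheme) ∈ D.support) : D ≤ P := by
  intro W
  by_cases hW : P.ideal W = ⊤
  · rw [hW]; exact le_top
  obtain ⟨m, hm, hle⟩ := Ideal.exists_le_maximal _ hW
  obtain ⟨z, hz, rfl⟩ := exists_point_primeIdealOf W.2 m hm.isPrime
  have := ideal_isPrime P W hz ((mem_support_iff_le W z hz).2 hle)
  obtain ⟨q, hq, hqI⟩ := exists_point_primeIdealOf W.2 (P.ideal W) this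
  obtain rfl := eq_genericPoint P W hq hqI
  exact ((mem_support_iff_le W _ hq).1 h).trans hqI.le

omit [IsLocallyNoetherian X] in
lemma notMem_map_of_minimal {A S : Type u} [CommRing A] [CommRing S] [Algebra A S] (M : Submonoid A)
    [IsLocalization M S] {q : Ideal A} (hq : q ∈ minimalPrimes A) (hdisj : Disjoint (M : Set A) q)
    {g : S} (hg : g ∈ nonZeroDivisors S) : g ∉ q.map (algebraMap A S) := by
  haveI := hq.1.1
  have hp' : (q.map (algebraMap A S)).IsPrime :=
    IsLocalization.isPrime_of_isPrime_disjoint M _ _ inferInstance hdisj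
  refine fun hg' => Set.disjoint_left.1 (Ideal.disjoint_nonZeroDivisors_of_mem_minimalPrimes
    (p := q.map (algebraMap A S)) ⟨⟨hp', bot_le⟩, fun Q hQ hQle => ?_⟩) hg' hg
  haveI := hQ.1
  have hQ' : Q.comap (algebraMap A S) ≤ q := by
    conv_rhs => rw [← IsLocalization.comap_map_of_isPrime_disjoint M S inferInstance hdisj]
    exact Ideal.comap_mono hQle
  exact Ideal.map_le_iff_le_comap.2 (hq.2 ⟨Ideal.IsPrime.comap _, bot_le⟩ hQ')

omit [IsLocallyNoetherian X] in
lemma not_mem_minimalPrimes (hP : BlowUp.IsEffCartierIdeal P) (W : X.affineOpens)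
    [(P.ideal W).IsPrime] : P.ideal W ∉ minimalPrimes Γ(X, W.1) := by
  intro hmin
  obtain ⟨z, hz, hzI⟩ := exists_point_primeIdealOf W.2 (P.ideal W) inferInstance
  obtain ⟨r, hzr, g, hg, hPr⟩ := exists_chart hP W hz
  letI : Algebra Γ(X, W.1) Γ(X, (X.affineBasicOpen (U := W) r).1) :=
    (X.presheaf.map (homOfLE (X.basicOpen_le r)).op).hom.toAlgebra
  haveI : IsLocalization.Away r Γ(X, (X.affineBasicOpen (U := W) r).1) :=
    W.2.isLocalization_basicOpen r
  have hr : r ∉ P.ideal W := hzI ▸ (mem_basicOpen_iff_not_mem W.2 z hz r).1 hzr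
  refine notMem_map_of_minimal (S := Γ(X, (X.affineBasicOpen (U := W) r).1)) (Submonoid.powers r)
    hmin (Set.disjoint_left.2 fun a ⟨n, hn⟩ ha =>
      hr ((inferInstance : (P.ideal W).IsPrime).mem_of_pow_mem n (by rw [← hn] at ha; exact ha))) hg ?_
  rw [RingHom.algebraMap_toAlgebra]
  have := Ideal.mem_span_singleton_self g
  rw [← hPr, ← P.map_ideal_basicOpen W r] at this
  exact this

/-- Effective Cartier divisors supported on integral ones are their products. -/
theorem exists_prod_eq [IsNoetherian X] (r : ℕ) (Ds : Fin r → X.IdealSheafData)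
    (hDs : ∀ i, BlowUp.IsEffCartierIdeal (Ds i)) (hint : ∀ i, IsIntegral (Ds i).subscheme)
    (D : X.IdealSheafData) :
    BlowUp.IsEffCartierIdeal D → (D.support : Set X) ⊆ ⋃ i, ((Ds i).support : Set X) →
      ∃ a : Fin r → ℕ, D = ∏ i, Ds i ^ a i := by
  classical
  haveI := Groth.Agent.S4362.result X
  induction D using WellFoundedGT.induction with
  | _ D ih =>
    intro hD hsub
    by_cases htop : D = ⊤
    · exact ⟨0, by
        rw [htop, ← Scheme.IdealSheafData.one_eq_top]
        simp only [Pi.zero_apply, pow_zero, Finset.prod_const_one]⟩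
    obtain ⟨x, hx⟩ : (D.support : Set X).Nonempty := by
      rw [Set.nonempty_iff_ne_empty]
      intro he
      exact htop ((Scheme.IdealSheafData.support_eq_bot_iff D).1 (SetLike.coe_injective
        (he.trans Closeds.coe_bot.symm)))
    obtain ⟨W, hxW, f, hf, hDW⟩ := hD x
    haveI : IsNoetherianRing Γ(X, W.1) := IsLocallyNoetherian.component_noetherian W
    obtain ⟨Q, hQ, -⟩ := Ideal.exists_minimalPrimes_le ((mem_support_iff_le W x hxW).1 hx)
    haveI := hQ.1.1
    obtain ⟨y, hy, hyQ⟩ := exists_point_primeIdealOf W.2 Q inferInstance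
    have hyD : y ∈ D.support := (mem_support_iff_le W y hy).2 (hyQ ▸ hQ.1.2)
    obtain ⟨i, hyi⟩ := Set.mem_iUnion.1 (hsub hyD)
    haveI := hint i
    haveI := ideal_isPrime (Ds i) W hy hyi
    have hle : (Ds i).ideal W ≤ Q := hyQ ▸ (mem_support_iff_le W y hy).1 hyi
    have heq : (Ds i).ideal W = Q := by
      refine hle.lt_or_eq.resolve_left fun hlt => not_mem_minimalPrimes (hDs i) W ?_
      haveI : (D.ideal W).IsPrincipal := ⟨f, hDW⟩
      have h1 := (Ideal.height_add_one_le_of_lt_of_isPrime hlt).trans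
        (Ideal.height_le_one_of_isPrincipal_of_mem_minimalPrimes (D.ideal W) Q hQ)
      exact Ideal.height_eq_zero_iff.1 (nonpos_iff_eq_zero.1
        ((ENat.add_le_add_iff_right ENat.one_ne_top).1 (h1.trans_eq (zero_add 1).symm)))
    obtain rfl := eq_genericPoint (Ds i) W hy (hyQ.trans heq.symm)
    have hDle : D ≤ Ds i := le_of_genericPoint_mem (Ds i) hyD
    have hlt : D < colonSheaf D (Ds i) :=
      lt_of_le_of_ne le_colonSheaf (colonSheaf_ne hD (hDs i) hDle hyi).symm
    obtain ⟨a, ha⟩ := ih _ hlt (colonSheaf_cartier hD (hDs i) hDle)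
      ((SetLike.coe_subset_coe.2 (Scheme.IdealSheafData.support_antitone le_colonSheaf)).trans hsub)
    refine ⟨a + Pi.single i 1, ?_⟩
    conv_lhs => rw [← mul_colonSheaf hD (hDs i) hDle, ha]
    simp only [Pi.add_apply, pow_add, Finset.prod_mul_distrib]
    rw [mul_comm]
    congr 1
    rw [Finset.prod_eq_single i (fun j _ hj => by simp [hj]) (fun h => absurd (Finset.mem_univ i) h)]
    simp

end Groth.Agent.CartDecomp
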